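import Mathlib

set_option autoImplicit false

namespace Groth.Agent.H5.KA

open Finset

/-- explicit linear independence of `v` on the finite set `s` with coefficients in a subset `S`. -/
def IndepIn {k σ : Type*} [Field k] (S : Set k) (v : σ → k) (s : Finset σ) : Prop :=
  ∀ c : σ → k, (∀ i ∈ s, c i ∈ S) → ∑ i ∈ s, c i * v i = 0 → ∀ i ∈ s, c i = 0

lemma IndepIn.mono {k σ : Type*} [Field k] {S S' : Set k} (h : S' ⊆ S) {v : σ → k} {s : Finset σ}
    (hs : IndepIn S v s) : IndepIn S' v s :=
  fun c hc h0 => hs c (fun i hi => h (hc i hi)) h0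

lemma IndepIn.subset {k σ : Type*} [Field k] [DecidableEq σ] {S : Set k} (h0 : (0 : k) ∈ S)
    {v : σ → k} {s t : Finset σ} (hts : t ⊆ s) (hs : IndepIn S v s) : IndepIn S v t := by
  intro c hc hsum i hi
  have h1 := hs (fun j => if j ∈ t then c j else 0)
    (fun j _ => by
      by_cases hj : j ∈ t
      · simp only [hj, if_true]; exact hc j hj
      · simp only [hj, if_false]; exact h0)
    (by
      rw [← Finset.sum_subset hts (fun j _ hj => by simp [hj])]
      rw [← hsum]
      exact Finset.sum_congr rfl (fun j hj => by simp [hj]))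
    i (hts hi)
  simpa [hi] using h1

variable {k : Type*} [Field k] {ι : Type*} [Preorder ι] [IsDirected ι (· ≤ ·)] [Nonempty ι]

/-- **Descent of linear independence** along a decreasing directed family of subfields: a finite family
linearly independent over the intersection is linearly independent over some member. -/
theorem exists_indepIn {σ : Type*} [DecidableEq σ] (F : ι → Subfield k) (hF : Antitone F)
    (v : σ → k) (s : Finset σ)
    (h : IndepIn ((⨅ α, F α : Subfield k) : Set k) v s) (α₀ : ι) :
    ∃ α₁, α₀ ≤ α₁ ∧ IndepIn (F α₁ : Set k) v s := by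
  induction s using Finset.induction_on with
  | empty =>
    exact ⟨α₀, le_rfl, fun c _ _ i hi => absurd hi (Finset.notMem_empty i)⟩
  | insert a t hat ih =>
    obtain ⟨α₁, h01, hα₁⟩ := ih (h.subset (Subfield.zero_mem _) (Finset.subset_insert a t))
    by_contra hcon
    push_neg at hcon
    -- for every `β ≥ α₁` there is a relation expressing `v a`
    have hrel : ∀ β, α₁ ≤ β → ∃ e : σ → k, (∀ i ∈ t, e i ∈ F β) ∧ v a = ∑ i ∈ t, e i * v i := by
      intro β hβ
      have h1 := hcon β (h01.trans hβ)
      unfold IndepIn at h1
      push_neg at h1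
      obtain ⟨c, hc, hsum, i, hi, hci⟩ := h1
      have hca : c a ≠ 0 := by
        intro hca
        rw [Finset.sum_insert hat, hca, zero_mul, zero_add] at hsum
        have h2 := hα₁ c (fun j hj => hF hβ (hc j (Finset.mem_insert_of_mem hj))) hsum
        rcases Finset.mem_insert.mp hi with rfl | hi'
        · exact hci hca
        · exact hci (h2 i hi')
      refine ⟨fun i => -(c i / c a), fun i hi => ?_, ?_⟩
      · exact (F β).neg_mem ((F β).div_mem (hc i (Finset.mem_insert_of_mem hi))
          (hc a (Finset.mem_insert_self a t)))
      · rw [Finset.sum_insert hat] at hsum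
        have h3 : ∑ i ∈ t, -(c i / c a) * v i = -((∑ i ∈ t, c i * v i) / c a) := by
          rw [Finset.sum_div, ← Finset.sum_neg_distrib]
          exact Finset.sum_congr rfl (fun i _ => by ring)
        rw [h3]
        have h4 : ∑ i ∈ t, c i * v i = -(c a * v a) := by
          rw [eq_neg_iff_add_eq_zero, add_comm]; exact hsum
        rw [h4]
        field_simp
    obtain ⟨e, he, hve⟩ := hrel α₁ le_rfl
    -- the coefficients are independent of `β`
    have huniq : ∀ β, α₁ ≤ β → ∀ i ∈ t, e i ∈ F β := by
      intro β hβ i hi
      obtain ⟨e', he', hve'⟩ := hrel β hβ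
      have h5 := hα₁ (fun j => e j - e' j)
        (fun j hj => (F α₁).sub_mem (he j hj) (hF hβ (he' j hj)))
        (by
          have : ∑ j ∈ t, (e j - e' j) * v j = ∑ j ∈ t, e j * v j - ∑ j ∈ t, e' j * v j := by
            rw [← Finset.sum_sub_distrib]
            exact Finset.sum_congr rfl (fun j _ => by ring)
          rw [this, ← hve, ← hve', sub_self])
        i hi
      have h6 : e i = e' i := sub_eq_zero.mp h5
      rw [h6]; exact he' i hi
    have hinf : ∀ i ∈ t, e i ∈ (⨅ α, F α : Subfield k) := by
      intro i hi
      rw [Subfield.mem_iInf]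
      intro α
      obtain ⟨γ, hγ1, hγ2⟩ := exists_ge_ge α α₁
      exact hF hγ1 (huniq γ hγ2 i hi)
    have h7 := h (fun j => if j = a then -1 else e j)
      (fun j hj => by
        by_cases hja : j = a
        · simp only [hja, if_true]
          exact Subfield.neg_mem _ (Subfield.one_mem _)
        · simp only [hja, if_false]
          exact hinf j (Finset.mem_of_mem_insert_of_ne hj hja))
      (by
        rw [Finset.sum_insert hat]
        simp only [if_true]
        have : ∑ x ∈ t, (if x = a then (-1 : k) else e x) * v x = ∑ x ∈ t, e x * v x := by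
          refine Finset.sum_congr rfl (fun j hj => ?_)
          have hja : j ≠ a := fun h => hat (h ▸ hj)
          simp [hja]
        rw [this, ← hve]; ring)
      a (Finset.mem_insert_self a t)
    simp only [if_true] at h7
    exact one_ne_zero (neg_eq_zero.mp h7)

end Groth.Agent.H5.KA
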