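import Mathlib
import Groth.Agent.Lib.Helper5.PB.PB8
import Groth.Agent.Lib.Helper5.KA.A

set_option autoImplicit false
universe u

open EGA41

namespace Groth.Agent.H5.KA

open H5.PB

section
variable {k : Type u} [Field k] (p : ℕ) [hpp : Fact p.Prime] [CharP k p]

/-- `k₀[k^p] ⊆ k₀ ⊔ k^p`. -/
lemma pPower_subset (k₀ : Subfield k) :
    ((pPowerSubalgebra p k₀ k : Subalgebra k₀ k) : Set k) ⊆
      ((k₀ ⊔ (frobenius k p).fieldRange : Subfield k) : Set k) := by
  intro y hy
  have hy' : y ∈ Algebra.adjoin k₀ (Set.range fun b : k => b ^ p) := hy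
  refine Algebra.adjoin_induction
    (p := fun y _ => y ∈ (k₀ ⊔ (frobenius k p).fieldRange : Subfield k)) ?_ ?_ ?_ ?_ hy'
  · rintro _ ⟨b, rfl⟩
    exact (le_sup_right : (frobenius k p).fieldRange ≤ k₀ ⊔ (frobenius k p).fieldRange)
      ⟨b, rfl⟩
  · intro c
    exact (le_sup_left : k₀ ≤ k₀ ⊔ (frobenius k p).fieldRange) c.2
  · intro y z _ _ hy hz
    exact Subfield.add_mem _ hy hz
  · intro y z _ _ hy hz
    exact Subfield.mul_mem _ hy hz

/-- `k^p ⊆ k₀[k^p]` for any base. -/
lemma frobRange_subset (k₀ : Type u) [CommRing k₀] [Algebra k₀ k] :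
    (((frobenius k p).fieldRange : Subfield k) : Set k) ⊆
      ((pPowerSubalgebra p k₀ k : Subalgebra k₀ k) : Set k) := by
  rintro _ ⟨b, rfl⟩
  exact Algebra.subset_adjoin ⟨b, rfl⟩

variable {σ : Type u} (x : σ → k)

/-- the finite set of reduced exponents supported in a finite set. -/
noncomputable def MMfin (S : Finset σ) : Finset (σ →₀ ℕ) :=
  S.finsupp (fun _ => Finset.range p)

omit [CharP k p] in
lemma coe_MMfin (S : Finset σ) : (MMfin p S : Set (σ →₀ ℕ)) = MM p (S : Set σ) := by
  ext e
  simp only [MMfin, Finset.mem_coe, Finset.mem_finsupp_iff, Finset.mem_range, MM, Set.mem_ofPred_eq]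
  constructor
  · rintro ⟨h1, h2⟩
    refine ⟨fun i => ?_, by exact_mod_cast h1⟩
    by_cases hi : i ∈ S
    · exact h2 i hi
    · have : e i = 0 := by
        by_contra h0
        exact hi (h1 (Finsupp.mem_support_iff.mpr h0))
      rw [this]; exact hpp.out.pos
  · rintro ⟨h1, h2⟩
    exact ⟨by exact_mod_cast h2, fun i _ => h1 i⟩

/-- `p`-freeness over any base gives explicit independence over `k^p`. -/
lemma indepIn_of_PFon (k₀ : Type u) [CommRing k₀] [Algebra k₀ k] (J : Set σ)
    (h : PFon p k₀ x J) (T : Finset (σ →₀ ℕ)) (hT : (T : Set (σ →₀ ℕ)) ⊆ MM p J) :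
    IndepIn (((frobenius k p).fieldRange : Subfield k) : Set k) (pMonomial x) T := by
  classical
  intro c hc hsum
  have h1 := (linearIndepOn_iff'' (R := pPowerSubalgebra p k₀ k)).mp h T
    (fun e => if he : e ∈ T then ⟨c e, frobRange_subset p k₀ (hc e he)⟩ else 0) hT
    (fun e he => by simp [he])
    (by
      rw [← hsum]
      refine Finset.sum_congr rfl (fun e he => ?_)
      simp only [he, dif_pos]
      rfl)
  intro e he
  have h2 := h1 e he
  simp only [he, dif_pos] at h2
  exact congrArg Subtype.val h2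

/-- explicit independence over `k₀ ⊔ k^p` gives `p`-freeness over `k₀` (finite case). -/
lemma PFon_of_indepIn (k₀ : Subfield k) (J : Set σ) (T : Finset (σ →₀ ℕ))
    (hT : (T : Set (σ →₀ ℕ)) = MM p J)
    (h : IndepIn ((k₀ ⊔ (frobenius k p).fieldRange : Subfield k) : Set k) (pMonomial x) T) :
    PFon p k₀ x J := by
  classical
  unfold PFon
  rw [linearIndepOn_iff'']
  intro t g ht hg hsum
  have htT : t ⊆ T := by
    intro e he
    have := ht he
    rw [← hT] at this
    exact_mod_cast this
  have h1 := h (fun e => if e ∈ t then (g e : k) else 0)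
    (fun e _ => by
      by_cases he : e ∈ t
      · simp only [he, if_true]
        exact pPower_subset p k₀ (g e).2
      · simp only [he, if_false]
        exact Subfield.zero_mem _)
    (by
      rw [← Finset.sum_subset htT (fun e _ he => by simp [he])]
      rw [← hsum]
      refine Finset.sum_congr rfl (fun e he => ?_)
      simp only [he, if_true]
      rfl)
  intro e he
  have h2 := h1 e (htT he)
  simp only [he, if_true] at h2
  exact Subtype.ext h2

end

section main
variable {k : Type u} [Field k] (p : ℕ) [hpp : Fact p.Prime] [CharP k p]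
  {ι : Type u} [Preorder ι] [IsDirected ι (· ≤ ·)] [Nonempty ι] (kα : ι → Subfield k)
  (hanti : Antitone kα)
  (hint : ⨅ α, (kα α ⊔ (frobenius k p).fieldRange) = (frobenius k p).fieldRange)
  {σ : Type u} (x : σ → k)

include hanti hint in
/-- a finite subfamily of a `p`-free family stays `p`-free over `k_α` for all large `α`. -/
theorem exists_PFon (k₀ : Type u) [CommRing k₀] [Algebra k₀ k] (hx : IsPIndependent p k₀ x)
    (S : Finset σ) (α₀ : ι) :
    ∃ α₁, α₀ ≤ α₁ ∧ ∀ α, α₁ ≤ α → PFon p (kα α) x (S : Set σ) := by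
  classical
  have h0 : PFon p k₀ x Set.univ := (PFon_univ_iff p k₀ x hpp.out.pos).mpr hx
  have h1 := indepIn_of_PFon p x k₀ Set.univ h0 (MMfin p S)
    (by rw [coe_MMfin]; exact MM_mono (p := p) (Set.subset_univ _))
  rw [← hint] at h1
  have hF : Antitone (fun α => kα α ⊔ (frobenius k p).fieldRange) :=
    fun a b hab => sup_le_sup_right (hanti hab) _
  obtain ⟨α₁, h01, h2⟩ := exists_indepIn (fun α => kα α ⊔ (frobenius k p).fieldRange) hF
    (pMonomial x) (MMfin p S) h1 α₀
  refine ⟨α₁, h01, fun α hα => ?_⟩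
  exact PFon_of_indepIn p x (kα α) (S : Set σ) (MMfin p S) (coe_MMfin p S)
    (h2.mono (hF hα))

include hanti hint in
/-- the differentials of a finite subfamily of a `p`-free family are linearly independent in
`Ω_{k/k_α}` for all large `α`. -/
theorem exists_linearIndependent_D (k₀ : Type u) [CommRing k₀] [Algebra k₀ k]
    (hx : IsPIndependent p k₀ x) (S : Finset σ) (α₀ : ι) :
    ∃ α₁, α₀ ≤ α₁ ∧ ∀ α, α₁ ≤ α →
      LinearIndependent k (fun j : (S : Set σ) => KaehlerDifferential.D (kα α) k (x j)) := by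
  obtain ⟨α₁, h01, h⟩ := exists_PFon p kα hanti hint x k₀ hx S α₀
  refine ⟨α₁, h01, fun α hα => ?_⟩
  have h1 := (PFon_iff_subtype p (kα α) x (S : Set σ) hpp.out.pos).mp (h α hα)
  exact linearIndependent_D_of_isPIndependent p (k := kα α) (fun j : (S : Set σ) => x j) h1

end main

end Groth.Agent.H5.KA
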