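import Mathlib
import Groth.Agent.Lib.Helper5.KA.B
import Groth.Agent.Lib.Helper5.RJ.E

set_option autoImplicit false
universe u

open EGA41 TensorProduct KaehlerDifferential IsLocalRing

namespace Groth.Agent.H5.KA

open H5.PB

section LA
variable {k A K M N I : Type*} [Field k] [CommRing A] [Field K] [Algebra k A] [Algebra A K]
  [Algebra k K] [IsScalarTower k A K] [AddCommGroup M] [Module k M] [AddCommGroup N] [Module k N]

/-- linear algebra: if `f` maps the basis vectors in the support of `y` to a linearly independent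
family and `y` dies under the base change of `f`, then `y = 0`. -/
lemma eq_zero_of_lTensor_baseChange (b : Module.Basis I k M) (f : M →ₗ[k] N)
    (y : K ⊗[A] (A ⊗[k] M))
    (hli : LinearIndepOn k (fun i => f (b i))
      ((((b.baseChange A).baseChange K).repr y).support : Set I))
    (hy : (f.baseChange A).lTensor K y = 0) : y = 0 := by
  classical
  set 𝔟 := (b.baseChange A).baseChange K with h𝔟
  set c := 𝔟.repr y with hc
  have h𝔟i : ∀ i, 𝔟 i = (1 : K) ⊗ₜ[A] ((1 : A) ⊗ₜ[k] b i) := by
    intro i
    rw [h𝔟, Module.Basis.baseChange_apply, Module.Basis.baseChange_apply]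
  have hy1 : y = ∑ i ∈ c.support, (c i) ⊗ₜ[A] ((1 : A) ⊗ₜ[k] b i) := by
    conv_lhs => rw [← 𝔟.linearCombination_repr y, Finsupp.linearCombination_apply, Finsupp.sum]
    refine Finset.sum_congr rfl (fun i _ => ?_)
    rw [h𝔟i, TensorProduct.smul_tmul', smul_eq_mul, mul_one]
  have hy2 : (TensorProduct.AlgebraTensorModule.cancelBaseChange k A K K N)
      ((f.baseChange A).lTensor K y) = ∑ i ∈ c.support, c i • ((1 : K) ⊗ₜ[k] f (b i)) := by
    conv_lhs => rw [hy1]
    rw [map_sum, map_sum]
    refine Finset.sum_congr rfl (fun i _ => ?_)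
    rw [LinearMap.lTensor_tmul, LinearMap.baseChange_tmul,
      TensorProduct.AlgebraTensorModule.cancelBaseChange_tmul, one_smul,
      TensorProduct.smul_tmul', smul_eq_mul, mul_one]
  rw [hy, map_zero] at hy2
  have hli' : LinearIndepOn K (fun i => (1 : K) ⊗ₜ[k] f (b i)) (c.support : Set I) :=
    Module.Flat.linearIndependent_one_tmul (S := K) hli
  have h0 : ∀ i ∈ c.support, c i = 0 :=
    linearIndepOn_iff''.mp hli' c.support c subset_rfl
      (fun i hi => Finsupp.notMem_support_iff.mp hi) hy2.symm
  have hc0 : c = 0 := by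
    ext i
    by_cases hi : i ∈ c.support
    · exact h0 i hi
    · exact Finsupp.notMem_support_iff.mp hi
  exact (LinearEquiv.map_eq_zero_iff 𝔟.repr).mp hc0

end LA

section main
variable {k A : Type u} [Field k] (p : ℕ) [hpp : Fact p.Prime] [CharP k p] [CommRing A]
  [IsLocalRing A] [Algebra k A]
  {ι : Type u} [Preorder ι] [IsDirected ι (· ≤ ·)] [Nonempty ι] (kα : ι → Subfield k)
  (hanti : Antitone kα)
  (hint : ⨅ α, (kα α ⊔ (frobenius k p).fieldRange) = (frobenius k p).fieldRange)

/-- a basis of `Ω_{k/ℤ}` consisting of differentials of a `p`-free family (over the prime field). -/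
theorem exists_basis_int :
    ∃ (B : Set k) (b : Module.Basis B k (Ω[k⁄ℤ])),
      IsPIndependent p (⊥ : Subfield k) (Subtype.val : B → k) ∧
      ∀ i : B, b i = KaehlerDifferential.D ℤ k (i : k) := by
  have hp := hpp.out.pos
  have h0 : IsPIndependent p (⊥ : Subfield k) (PEmpty.elim : PEmpty.{u+1} → k) := by
    rw [← PFon_univ_iff p (⊥ : Subfield k) _ hp, Set.univ_eq_empty_iff.mpr inferInstance]
    exact PFon_empty p _ hp
  obtain ⟨B, -, hB⟩ := exists_pBasis_of_isPIndependent p _ h0
  obtain ⟨bP, hbP⟩ := main2466 p (Subtype.val : B → k) hB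
  let e : Ω[k⁄ℤ] ≃ₗ[k] Ω[k⁄(⊥ : Subfield k)] :=
    LinearEquiv.ofBijective (KaehlerDifferential.map ℤ (⊥ : Subfield k) k k)
      (RJ.map_int_bijective (P := (⊥ : Subfield k)))
  refine ⟨B, bP.map e.symm, hB.1, fun i => ?_⟩
  rw [Module.Basis.map_apply, hbP, LinearEquiv.symm_apply_eq]
  exact (KaehlerDifferential.map_D ℤ (⊥ : Subfield k) k k (i : k)).symm

include hanti hint in
theorem injective_int_of_eventually (α₀ : ι)
    (h : ∀ α : ι, α₀ ≤ α →
      Function.Injective ((mapBaseChange (kα α) k A).lTensor (ResidueField A))) :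
    Function.Injective ((mapBaseChange ℤ k A).lTensor (ResidueField A)) := by
  classical
  obtain ⟨B, b, hBind, hb⟩ := exists_basis_int (k := k) p
  rw [injective_iff_map_eq_zero]
  intro y hy
  set S := ((((b.baseChange A).baseChange (ResidueField A)).repr y).support) with hS
  obtain ⟨α₁, h01, hli⟩ := exists_linearIndependent_D p kα hanti hint (Subtype.val : B → k)
    (⊥ : Subfield k) hBind S α₀
  have hli1 := hli α₁ le_rfl
  have hsq := RJ.square (P := kα α₁) (k := k) (A := A)
  have h2 : (mapBaseChange (kα α₁) k A).lTensor (ResidueField A)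
      (((KaehlerDifferential.map ℤ (kα α₁) k k).baseChange A).lTensor (ResidueField A) y) = 0 := by
    rw [← LinearMap.comp_apply, ← LinearMap.lTensor_comp, ← hsq, LinearMap.lTensor_comp,
      LinearMap.comp_apply, hy, map_zero]
  have h3 := (injective_iff_map_eq_zero _).mp (h α₁ h01) _ h2
  refine eq_zero_of_lTensor_baseChange (K := ResidueField A) b
    (KaehlerDifferential.map ℤ (kα α₁) k k) y ?_ h3
  have : (fun i : B => KaehlerDifferential.map ℤ (kα α₁) k k (b i)) =
      fun i : B => KaehlerDifferential.D (kα α₁) k (i : k) := by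
    funext i
    rw [hb, KaehlerDifferential.map_D]
    rfl
  rw [this]
  exact hli1

include hanti hint in
theorem main :
    CAlgX.IsAdicFormallySmooth k A (maximalIdeal A) ↔
      (PP16.SymGrBijective A (maximalIdeal A) ∧ ∃ α₀ : ι, ∀ α : ι, α₀ ≤ α →
        Function.Injective ((mapBaseChange (kα α) k A).lTensor (ResidueField A))) := by
  constructor
  · intro h
    refine ⟨(RJ.isAdic_field_iff.mp h).1, Classical.arbitrary ι, fun α _ => ?_⟩
    exact RJ.injective_lTensor_mapBaseChange (Λ := kα α) (maximalIdeal A) h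
  · rintro ⟨h1, α₀, h2⟩
    exact RJ.isAdic_field_iff.mpr ⟨h1, injective_int_of_eventually p kα hanti hint α₀ h2⟩

end main

end Groth.Agent.H5.KA
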